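import Mathlib.Algebra.CharP.Algebra
import Mathlib.Algebra.CharP.Frobenius
import Mathlib.LinearAlgebra.Dimension.Free
import Mathlib.LinearAlgebra.FiniteDimensional.Defs
import Mathlib.RingTheory.MvPolynomial.Expand
import Mathlib.RingTheory.MvPowerSeries.Expand
import Mathlib.RingTheory.PowerSeries.Expand
import Mathlib.RingTheory.Localization.FractionRing
import Mathlib.FieldTheory.Perfect
import Mathlib.RingTheory.AlgebraicIndependent.RankAndCardinality
import Mathlib.RingTheory.AlgebraicIndependent.Adjoin
import Mathlib.FieldTheory.IntermediateField.Adjoin.Basic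

/-!
# The degree of a field over its `p`-th powers
-/

set_option autoImplicit false
universe u v w

namespace Groth.Agent.PDeg23

/-- The degree of a ring map between fields. -/
noncomputable def fr {A : Type u} {B : Type v} [Field A] [Field B] (f : A →+* B) : ℕ :=
  @Module.finrank A B _ _ f.toAlgebra.toModule

theorem fr_comp {A : Type u} {B : Type v} {C : Type w} [Field A] [Field B] [Field C]
    (f : A →+* B) (g : B →+* C) : fr (g.comp f) = fr f * fr g := by
  letI := f.toAlgebra
  letI := g.toAlgebra
  letI := (g.comp f).toAlgebra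
  haveI : IsScalarTower A B C := IsScalarTower.of_algebraMap_eq' rfl
  exact (Module.finrank_mul_finrank A B C).symm

/-- `b` is a `p`-basis in the strong sense: unique expansion `Σ bᵢ cᵢᵖ`. -/
def HasPBasis (p : ℕ) (R : Type u) [CommRing R] {ι : Type v} [Fintype ι] (b : ι → R) : Prop :=
  Function.Bijective fun c : ι → R => ∑ i, b i * c i ^ p

theorem fr_eq_card {A : Type u} {B : Type v} [Field A] [Field B] (f : A →+* B)
    {ι : Type w} [Fintype ι] (b : ι → B)
    (h : Function.Bijective fun c : ι → A => ∑ i, b i * f (c i)) : fr f = Fintype.card ι := by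
  letI := f.toAlgebra
  let T : (ι → A) →ₗ[A] B :=
    { toFun := fun c => ∑ i, b i * f (c i)
      map_add' := fun c d => by simp [mul_add, Finset.sum_add_distrib]
      map_smul' := fun a c => by
        simp only [Algebra.smul_def, RingHom.id_apply, Pi.smul_apply, Pi.algebraMap_apply,
          Algebra.algebraMap_self, map_mul, Finset.mul_sum]
        refine Finset.sum_congr rfl fun i _ => ?_
        show _ = f a * _
        ring }
  show Module.finrank A B = _
  rw [← (LinearEquiv.ofBijective T h).finrank_eq, Module.finrank_pi]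

theorem exists_of_fr_ne_zero {A : Type u} {B : Type v} [Field A] [Field B] (f : A →+* B)
    (h : fr f ≠ 0) :
    ∃ b : Fin (fr f) → B, Function.Bijective fun c : Fin (fr f) → A => ∑ i, b i * f (c i) := by
  letI := f.toAlgebra
  haveI : Module.Finite A B := Module.finite_of_finrank_pos (Nat.pos_of_ne_zero h)
  let β : Module.Basis (Fin (fr f)) A B := Module.finBasis A B
  refine ⟨β, ?_⟩
  have e : (fun c : Fin (fr f) → A => ∑ i, β i * f (c i)) = fun c => β.equivFun.symm c := by
    funext c
    rw [Module.Basis.equivFun_symm_apply]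
    refine Finset.sum_congr rfl fun i _ => ?_
    rw [Algebra.smul_def, RingHom.algebraMap_toAlgebra, mul_comm]
  rw [e]
  exact β.equivFun.symm.bijective

variable {p : ℕ} [hp : Fact p.Prime]

section Field

variable {F : Type u} {K : Type v} [Field F] [Field K] [CharP F p] [CharP K p]

theorem fr_frobenius_eq_card {ι : Type w} [Fintype ι] {b : ι → F} (h : HasPBasis p F b) :
    fr (frobenius F p) = Fintype.card ι := fr_eq_card _ b h

theorem exists_hasPBasis (h : fr (frobenius F p) ≠ 0) :
    ∃ b : Fin (fr (frobenius F p)) → F, HasPBasis p F b := exists_of_fr_ne_zero _ h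

/-- A finite extension does not change the degree over `p`-th powers. -/
theorem fr_frobenius_eq_of_finite (f : F →+* K) (hf : fr f ≠ 0) :
    fr (frobenius K p) = fr (frobenius F p) := by
  have hcomm : (frobenius K p).comp f = f.comp (frobenius F p) :=
    RingHom.ext fun x => by simp [frobenius_def]
  have h := congrArg fr hcomm
  rw [fr_comp, fr_comp, mul_comm] at h
  exact Nat.eq_of_mul_eq_mul_right (Nat.pos_of_ne_zero hf) h

theorem finrank_fieldRange (F : Type u) [Field F] [CharP F p] :
    Module.finrank (↥(frobenius F p).fieldRange) F = fr (frobenius F p) := by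
  letI := (frobenius F p).toAlgebra
  symm
  refine Algebra.finrank_eq_of_equiv_equiv (R₀ := F) (S₀ := F)
    (RingEquiv.ofBijective (frobenius F p).rangeRestrictField
      ⟨(frobenius F p).rangeRestrictField.injective, fun x => ?_⟩) (RingEquiv.refl F) ?_
  · obtain ⟨_, y, rfl⟩ := x
    exact ⟨y, rfl⟩
  · exact RingHom.ext fun x => rfl

end Field

section FractionRing

variable {R : Type u} [CommRing R] [IsDomain R] [CharP R p] {ι : Type w} [Fintype ι] {b : ι → R}
  (L : Type v) [Field L] [Algebra R L] [IsFractionRing R L]

theorem hasPBasis_fractionRing (h : HasPBasis p R b) :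
    HasPBasis p L (fun i => algebraMap R L (b i)) := by
  classical
  haveI : CharP L p := charP_of_injective_algebraMap (IsFractionRing.injective R L) p
  haveI : ExpChar L p := ExpChar.prime hp.out
  refine ⟨fun c d hcd => ?_, fun x => ?_⟩
  · have h0 : ∑ i, algebraMap R L (b i) * (c i - d i) ^ p = 0 := by
      simp only [sub_pow_expChar, mul_sub, Finset.sum_sub_distrib]
      simp only at hcd
      rw [hcd, sub_self]
    obtain ⟨s, hs⟩ := IsLocalization.exist_integer_multiples_of_finite (nonZeroDivisors R)
      (fun i => c i - d i)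
    choose a ha using hs
    have h1 : ∑ i, b i * a i ^ p = 0 := by
      apply IsFractionRing.injective R L
      simp only [map_sum, map_mul, map_pow, map_zero, ha, Algebra.smul_def, mul_pow]
      calc _ = algebraMap R L (s : R) ^ p * ∑ i, algebraMap R L (b i) * (c i - d i) ^ p := by
            rw [Finset.mul_sum]
            exact Finset.sum_congr rfl fun i _ => by ring
        _ = 0 := by rw [h0, mul_zero]
    have ha0 : a = 0 := h.1 (by simpa [zero_pow hp.out.ne_zero] using h1)
    funext i
    have := ha i
    rw [ha0, Pi.zero_apply, map_zero, Algebra.smul_def, eq_comm, mul_eq_zero] at this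
    refine sub_eq_zero.mp (this.resolve_left fun e => ?_)
    exact nonZeroDivisors.coe_ne_zero s (IsFractionRing.injective R L (by rw [e, map_zero]))
  · obtain ⟨f, g, hg, rfl⟩ := IsFractionRing.div_surjective (A := R) x
    obtain ⟨c, hc⟩ := h.2 (f * g ^ (p - 1))
    have hg0 : algebraMap R L g ≠ 0 := fun e =>
      nonZeroDivisors.ne_zero hg (IsFractionRing.injective R L (by rw [e, map_zero]))
    refine ⟨fun i => algebraMap R L (c i) / algebraMap R L g, ?_⟩
    simp only at hc ⊢
    rw [Finset.sum_congr rfl fun i _ => show algebraMap R L (b i) *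
        (algebraMap R L (c i) / algebraMap R L g) ^ p =
        algebraMap R L (b i * c i ^ p) * (algebraMap R L g ^ p)⁻¹ by
      rw [map_mul, map_pow, div_pow, div_eq_mul_inv, mul_assoc], ← Finset.sum_mul, ← map_sum, hc,
      map_mul, map_pow]
    obtain ⟨q, hq⟩ : ∃ q, p = q + 1 := ⟨p - 1, by have := hp.out.pos; omega⟩
    rw [hq, Nat.add_sub_cancel, pow_succ]
    field_simp

end FractionRing

section MvPolynomial

open MvPolynomial

variable {F : Type u} [CommRing F] [CharP F p] {σ : Type v} [Fintype σ] [DecidableEq σ]
  {ι : Type w} [Fintype ι] {b : ι → F}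

/-- The exponent `a` as a finitely supported function. -/
noncomputable def expo (a : σ → Fin p) : σ →₀ ℕ := Finsupp.equivFunOnFinite.symm fun s => (a s : ℕ)

theorem hasPBasis_mvPolynomial (h : HasPBasis p F b) :
    HasPBasis p (MvPolynomial σ F) (fun x : ι × (σ → Fin p) => monomial (expo x.2) (b x.1)) := by
  haveI : ExpChar F p := ExpChar.prime hp.out
  have hp0 : p ≠ 0 := hp.out.ne_zero
  have hdecomp : ∀ m : σ →₀ ℕ, ∃ (a : σ → Fin p) (q : σ →₀ ℕ), m = p • q + expo a := fun m =>
    ⟨fun s => ⟨m s % p, Nat.mod_lt _ hp.out.pos⟩, m.mapRange (· / p) (Nat.zero_div p), by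
      ext s; simp [expo, Nat.div_add_mod]⟩
  have huniq : ∀ (a a' : σ → Fin p) (q q' : σ →₀ ℕ), p • q + expo a = p • q' + expo a' →
      a = a' ∧ q = q' := by
    intro a a' q q' e
    have key : ∀ s, (a s : ℕ) = (a' s : ℕ) ∧ q s = q' s := by
      intro s
      have := congrArg (fun m : σ →₀ ℕ => m s) e
      simp [expo] at this
      have h1 := congrArg (· % p) this
      simp [Nat.mul_add_mod, Nat.mod_eq_of_lt (a s).2, Nat.mod_eq_of_lt (a' s).2] at h1
      refine ⟨h1, ?_⟩
      rw [h1] at this
      exact Nat.eq_of_mul_eq_mul_left hp.out.pos (by omega)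
    exact ⟨funext fun s => Fin.ext (key s).1, Finsupp.ext fun s => (key s).2⟩
  have hcoeff : ∀ (c : ι × (σ → Fin p) → MvPolynomial σ F) (a : σ → Fin p) (q : σ →₀ ℕ),
      coeff (p • q + expo a) (∑ x, monomial (expo x.2) (b x.1) * c x ^ p) =
        ∑ i, b i * coeff q (c (i, a)) ^ p := by
    intro c a q
    have hterm : ∀ x : ι × (σ → Fin p),
        coeff (p • q + expo a) (monomial (expo x.2) (b x.1) * c x ^ p) =
          if x.2 = a then b x.1 * coeff q (c x) ^ p else 0 := by
      intro x
      rw [coeff_monomial_mul']
      split_ifs with h1 h2 h2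
      · rw [h2, add_tsub_cancel_right, ← map_frobenius_expand p, coeff_map,
          coeff_expand_smul p hp0, frobenius_def]
      · obtain ⟨a', q', hm⟩ := hdecomp (p • q + expo a - expo x.2)
        have e : p • q + expo a = p • q' + expo a' + expo x.2 := by rw [← hm, tsub_add_cancel_of_le h1]
        by_cases ha' : a' = fun _ => ⟨0, hp.out.pos⟩
        · have : expo a' = 0 := by rw [ha']; ext s; simp [expo]
          rw [this, add_zero] at e
          exact absurd ((huniq _ _ _ _ e).1).symm h2
        · obtain ⟨s, hs⟩ := Function.ne_iff.mp ha'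
          rw [hm, ← map_frobenius_expand p, coeff_map]
          have hnd : ¬ p ∣ (p • q' + expo a') s := by
            simp [expo]
            intro hd
            have hd' := (Nat.dvd_add_right (dvd_mul_right p (q' s))).mp hd
            exact hs (Fin.ext (Nat.eq_zero_of_dvd_of_lt hd' (a' s).2))
          rw [coeff_expand_of_not_dvd _ hnd, map_zero, mul_zero]
      · subst h2
        exact absurd (self_le_add_left (expo x.2) (p • q)) h1
      · rfl
    rw [coeff_sum, Finset.sum_congr rfl fun x _ => hterm x, Fintype.sum_prod_type]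
    simp
  refine ⟨fun c d e => ?_, fun f => ?_⟩
  · funext ⟨i, a⟩
    ext q
    have h2 := congrArg (coeff (p • q + expo a)) e
    simp only [hcoeff] at h2
    exact congrFun (h.1 h2) i
  · choose r hr using fun m : σ →₀ ℕ => h.2 (coeff m f)
    refine ⟨fun x => ∑ q ∈ f.support.image (fun m : σ →₀ ℕ => m.mapRange (· / p) (Nat.zero_div p)),
      monomial q (r (p • q + expo x.2) x.1), ?_⟩
    ext m
    obtain ⟨a, q, rfl⟩ := hdecomp m
    simp only [hcoeff, coeff_sum, coeff_monomial, Finset.sum_ite_eq']
    by_cases hq : q ∈ f.support.image (fun m : σ →₀ ℕ => m.mapRange (· / p) (Nat.zero_div p))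
    · simp only [if_pos hq]
      exact hr _
    · simp only [if_neg hq, zero_pow hp0, mul_zero, Finset.sum_const_zero]
      symm
      by_contra hne
      refine hq (Finset.mem_image.mpr ⟨_, MvPolynomial.mem_support_iff.mpr hne, ?_⟩)
      ext s
      simp [expo, Nat.mul_add_div hp.out.pos, Nat.div_eq_of_lt (a s).2]

end MvPolynomial

section PowerSeries

variable {k : Type u} [Field k] [CharP k p] [PerfectRing k p]

theorem hasPBasis_powerSeries :
    HasPBasis p (PowerSeries k) (fun j : Fin p => PowerSeries.monomial (j : ℕ) (1 : k)) := by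
  classical
  haveI : ExpChar k p := ExpChar.prime hp.out
  have hp0 : p ≠ 0 := hp.out.ne_zero
  have hpowc : ∀ (g : PowerSeries k) (n : ℕ),
      PowerSeries.coeff n (g ^ p) = if p ∣ n then PowerSeries.coeff (n / p) g ^ p else 0 := by
    intro g n
    have e : g ^ p = PowerSeries.map (frobenius k p) (PowerSeries.expand p hp0 g) :=
      (MvPowerSeries.map_frobenius_expand p hp0).symm
    rw [e, PowerSeries.coeff_map, PowerSeries.coeff_expand]
    split_ifs <;> simp [frobenius_def, zero_pow hp0]
  have hcoeff : ∀ (c : Fin p → PowerSeries k) (j : Fin p) (m : ℕ),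
      PowerSeries.coeff (p * m + j) (∑ i : Fin p, PowerSeries.monomial (i : ℕ) (1 : k) * c i ^ p) =
        PowerSeries.coeff m (c j) ^ p := by
    intro c j m
    rw [map_sum, Finset.sum_eq_single j]
    · rw [PowerSeries.monomial_eq_C_mul_X_pow, map_one, one_mul, PowerSeries.coeff_X_pow_mul, hpowc,
        if_pos (dvd_mul_right p m), Nat.mul_div_cancel_left m hp.out.pos]
    · intro i _ hne
      rw [PowerSeries.monomial_eq_C_mul_X_pow, map_one, one_mul, PowerSeries.coeff_X_pow_mul']
      split_ifs with hle
      · rw [hpowc, if_neg]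
        intro hd
        apply hne
        have h1 : (p * m + j) % p = (i : ℕ) % p := by
          obtain ⟨t, ht⟩ := hd
          have : p * m + j = p * t + i := by omega
          rw [this, Nat.mul_add_mod]
        rw [Nat.mul_add_mod, Nat.mod_eq_of_lt j.2, Nat.mod_eq_of_lt i.2] at h1
        exact (Fin.ext h1).symm
      · rfl
    · intro h; exact absurd (Finset.mem_univ j) h
  refine ⟨fun c d e => ?_, fun f => ?_⟩
  · funext j
    ext m
    have h2 := congrArg (PowerSeries.coeff (p * m + j)) e
    simp only [hcoeff] at h2
    exact frobenius_inj k p h2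
  · refine ⟨fun j => PowerSeries.mk fun m => (frobeniusEquiv k p).symm (PowerSeries.coeff (p * m + j) f), ?_⟩
    ext n
    obtain ⟨j, m, rfl⟩ : ∃ (j : Fin p) (m : ℕ), n = p * m + j :=
      ⟨⟨n % p, Nat.mod_lt _ hp.out.pos⟩, n / p, (Nat.div_add_mod n p).symm⟩
    simp only [hcoeff, PowerSeries.coeff_mk]
    exact frobeniusEquiv_symm_pow_p k p _

end PowerSeries

/-- `[K : Kᵖ] = p ^ trdeg · [F : Fᵖ]` for finitely generated extensions. -/
theorem fr_frobenius_of_fg {F K : Type u} [Field F] [Field K] [Algebra F K] [CharP F p] [CharP K p]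
    (hfg : (⊤ : IntermediateField F K).FG) {d : ℕ} (hd : Algebra.trdeg F K = d)
    (hF : fr (frobenius F p) ≠ 0) : fr (frobenius K p) = fr (frobenius F p) * p ^ d := by
  classical
  obtain ⟨ι, x, hx⟩ := exists_isTranscendenceBasis' F K
  have hcard : Cardinal.mk ι = d := by rw [hx.cardinalMk_eq_trdeg, hd]
  haveI : Finite ι := Cardinal.lt_aleph0_iff_finite.mp (by rw [hcard]; exact Cardinal.natCast_lt_aleph0)
  haveI := Fintype.ofFinite ι
  have hι : Fintype.card ι = d := by
    rw [Cardinal.mk_fintype] at hcard
    exact_mod_cast hcard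
  let E := IntermediateField.adjoin F (Set.range x)
  haveI : CharP E p := charP_of_injective_algebraMap (algebraMap F E).injective p
  haveI halg : Algebra.IsAlgebraic E K := hx.isAlgebraic_field
  haveI : FiniteDimensional E K := by
    obtain ⟨t, ht⟩ := hfg
    have htop : IntermediateField.adjoin E (t : Set K) = ⊤ := by
      apply IntermediateField.restrictScalars_injective F
      rw [IntermediateField.restrictScalars_top, eq_top_iff, ← ht, IntermediateField.adjoin_le_iff]
      exact fun y hy => IntermediateField.subset_adjoin E _ hy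
    haveI := IntermediateField.finiteDimensional_adjoin (K := E) (S := (t : Set K))
      fun y _ => (Algebra.IsAlgebraic.isAlgebraic y).isIntegral
    rw [htop] at this
    exact IntermediateField.topEquiv.toLinearEquiv.finiteDimensional
  have h1 : fr (frobenius K p) = fr (frobenius E p) := by
    refine fr_frobenius_eq_of_finite (algebraMap E K) ?_
    have e : fr (algebraMap E K) = Module.finrank E K := by
      unfold fr
      congr 1
    rw [e]
    exact Module.finrank_pos.ne'
  let Q := FractionRing (MvPolynomial ι F)
  haveI : CharP Q p :=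
    charP_of_injective_algebraMap (IsFractionRing.injective (MvPolynomial ι F) Q) p
  let e : Q ≃ₐ[F] E := hx.1.aevalEquivField
  have h2 : fr (frobenius E p) = fr (frobenius Q p) := by
    refine fr_frobenius_eq_of_finite e.toRingEquiv.toRingHom ?_
    have := fr_eq_card e.toRingEquiv.toRingHom (fun _ : Fin 1 => (1 : E)) (by
      refine ⟨fun c d h => funext fun i => ?_, fun y => ⟨fun _ => e.symm y, by simp⟩⟩
      have h' : e (c 0) = e (d 0) := by simpa using h
      rw [Subsingleton.elim i 0]
      exact e.injective h')
    rw [this]; simp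
  obtain ⟨b, hb⟩ := exists_hasPBasis (F := F) (p := p) hF
  have h3 := fr_frobenius_eq_card (hasPBasis_fractionRing Q (hasPBasis_mvPolynomial (σ := ι) hb))
  rw [h1, h2, h3, Fintype.card_prod, Fintype.card_fin, Fintype.card_fun, Fintype.card_fin, hι]

end Groth.Agent.PDeg23
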